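import Mathlib
import Cfsg.Agent.Lib.Helper46.FrobPQ.Defs
import Cfsg.Agent.Lib.Helper46.FrobPQ.Rel
import Cfsg.Agent.S0026
import Cfsg.Agent.Lib.Helper52.FrobCyc3
import Cfsg.Agent.Lib.Helper76.Nilp
import Cfsg.Agent.Lib.Helper22.SupLemmas

/-!
# S4306 farm, piece [TH]   (file Cfsg/Agent/Lib/Helper46/FrobPQ/TypeH.lean)

PAPER PROOF.
(1) fixS.  (2) S0026 for A = zpowers h acting on S: ⁅S,⟨h⟩⟩⁆ ⊔ (S ⊓ C(h)) = S and S ⊓ C(⟨h⟩) = ⊥ by (1).
(3) Q₀ := Q ⊓ centralizer (zpowers f): normalized by S (S centralizes f and normalizes Q), f, h.  If Q₀ ≠ Q: minQ gives S ≤ C(Q₀): done.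
If Q₀ = Q: f centralizes Q and S, so h is fixed point free on Q and on S (fixQ, fixS).  K := Q ⊔ S; every element is g x (g ∈ Q, x ∈ S; S normalizes Q: `Subgroup.mul_normal`-like / mem_sup_of_normal...), uniquely since Q ⊓ S = ⊥ (coprime orders).
h normalizes K; if h (g x) h⁻¹ = g x then (g⁻¹ h g h⁻¹) = x (h x⁻¹ h⁻¹)... ∈ Q ⊓ S = ⊥ so h g h⁻¹ = g, h x h⁻¹ = x, g = x = 1.  `Cfsg.Agent.Lib.Helper52.FrobCyc.nilpotent_of_fpf K hp (orderOf h = p) hK hfpf : IsNilpotent K`
(import Cfsg.Agent.Lib.Helper52.FrobCyc3).  In a finite nilpotent group elements of coprime order commute (Sylow subgroups normal: `Group.isNilpotent_of_finite_tfae`/`IsNilpotent` ⇒ normal Sylows, disjoint normal subgroups commute), so S ≤ C(Q): contradiction with bad.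
-/

set_option autoImplicit false
set_option linter.unusedSectionVars false
set_option linter.unusedVariables false

namespace Cfsg.Agent.Lib.Helper46.FrobPQ

open Subgroup
open scoped commutatorElement

universe u

variable {E : Type*} [Field E] {U : Type*} [AddCommGroup U] [Module E U]
  {Γ : Type*} [Group Γ] [Finite Γ]

variable {ρ : Γ →* Module.End E U} {Q S : Subgroup Γ} {f h : Γ} {t s p q : ℕ}

theorem TH_le_normalizer_of_forall {A K : Subgroup Γ}
    (h : ∀ g ∈ K, ∀ a ∈ A, g * a * g⁻¹ ∈ A) : K ≤ normalizer (A : Set Γ) := by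
  intro g hg
  rw [mem_normalizer_iff]
  intro a
  refine ⟨h g hg a, fun ha => ?_⟩
  have := h g⁻¹ (K.inv_mem hg) _ ha
  simpa [mul_assoc] using this

theorem TH_mem_normalizer_of_forall {A : Subgroup Γ} {g : Γ}
    (h : ∀ a ∈ A, g * a * g⁻¹ ∈ A) : g ∈ normalizer (A : Set Γ) := by
  have h1 : zpowers g ≤ normalizer (A : Set Γ) := by
    rw [zpowers_le]
    rw [mem_normalizer_iff]
    intro a
    refine ⟨h a, fun ha => ?_⟩
    -- conjugation by `g` is an injective self-map of the finite set `A`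
    let φ : A → A := fun a => ⟨g * a * g⁻¹, h a a.2⟩
    have hinj : Function.Injective φ := by
      intro a b hab
      have := congrArg Subtype.val hab
      apply Subtype.ext
      simpa [φ] using this
    obtain ⟨b, hb⟩ := (Finite.injective_iff_surjective.mp hinj) ⟨g * a * g⁻¹, ha⟩
    have h2 : g * (b : Γ) * g⁻¹ = g * a * g⁻¹ := congrArg Subtype.val hb
    have h3 : (b : Γ) = a := by simpa using h2
    exact h3 ▸ b.2
  exact h1 (mem_zpowers g)

theorem Cfg.typeH (c : Cfg ρ Q S f h t s p q) (hH : ∀ x ∈ S, f * x = x * f) :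
    (∀ x ∈ S, h * x = x * h → x = 1) ∧ ⁅S, zpowers h⁆ = S ∧
    (∀ g ∈ Q, f * g = g * f → ∀ x ∈ S, x * g = g * x) := by
  have : Fact t.Prime := ⟨c.tP⟩
  have : Fact s.Prime := ⟨c.sP⟩
  have h1 : ∀ x ∈ S, h * x = x * h → x = 1 := fun x hx hhx => c.fixS x hx (hH x hx) hhx
  refine ⟨h1, ?_, ?_⟩
  · have hcop : (Nat.card (zpowers h)).Coprime (Nat.card S) := by
      rw [Nat.card_zpowers, c.rel.orderOf_h]
      obtain ⟨k, hk⟩ := IsPGroup.iff_card.mp c.Ss
      rw [hk]
      exact Nat.Coprime.pow_right k ((Nat.coprime_primes c.rel.pP c.sP).mpr c.sp.symm)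
    have hnil : Group.IsNilpotent S := c.Ss.isNilpotent
    have hsol : Group.IsSolvable S := inferInstance
    have h2 := Cfsg.Agent.S0026.result (zpowers h) S (zpowers_le.mpr c.hS) hcop (Or.inr hsol)
    have h3 : S ⊓ centralizer ((zpowers h : Subgroup Γ) : Set Γ) = ⊥ := by
      rw [eq_bot_iff]
      intro x hx
      rw [mem_bot]
      exact h1 x hx.1 ((mem_centralizer_iff.1 hx.2) h (mem_zpowers h))
    rw [h3, sup_bot_eq] at h2
    exact h2
  · -- `Q₀ = C_Q(f)`
    set Q₀ : Subgroup Γ := Q ⊓ centralizer ((zpowers f : Subgroup Γ) : Set Γ) with hQ₀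
    have hmem : ∀ g ∈ Q, f * g = g * f → g ∈ Q₀ := by
      intro g hg hfg
      refine mem_inf.mpr ⟨hg, ?_⟩
      have h2 : zpowers f ≤ centralizer {g} := by
        rw [zpowers_le, mem_centralizer_iff]
        intro y hy
        rw [Set.mem_singleton_iff.mp hy]
        exact hfg.symm
      rw [mem_centralizer_iff]
      intro a ha
      have := (mem_centralizer_iff.1 (h2 ha)) g (Set.mem_singleton g)
      exact this.symm
    have hcomm : ∀ g ∈ Q₀, ∀ a ∈ zpowers f, a * g = g * a := fun g hg a ha =>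
      (mem_centralizer_iff.1 hg.2) a ha
    have hSa : ∀ x ∈ S, ∀ a ∈ zpowers f, a * x = x * a := by
      intro x hx a ha
      have h2 : zpowers f ≤ centralizer {x} := by
        rw [zpowers_le, mem_centralizer_iff]
        intro y hy
        rw [Set.mem_singleton_iff.mp hy]
        exact (hH x hx).symm
      have := (mem_centralizer_iff.1 (h2 ha)) x (Set.mem_singleton x)
      exact this.symm
    have hSQ₀ : S ≤ normalizer (Q₀ : Set Γ) := by
      apply TH_le_normalizer_of_forall
      intro x hx g hg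
      refine mem_inf.mpr ⟨(mem_normalizer_iff.1 (c.SQ hx) g).1 hg.1, ?_⟩
      rw [mem_centralizer_iff]
      intro a ha
      have e1 := hSa x hx a ha
      have e2 := hcomm g hg a ha
      have e3 : a * x⁻¹ = x⁻¹ * a := by
        have := congrArg (fun z => x⁻¹ * z * x⁻¹) e1
        simpa [mul_assoc] using this.symm
      calc a * (x * g * x⁻¹) = (a * x) * g * x⁻¹ := by group
        _ = x * (a * g) * x⁻¹ := by rw [e1]; group
        _ = x * g * (a * x⁻¹) := by rw [e2]; group
        _ = x * g * x⁻¹ * a := by rw [e3]; group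
    have hfQ₀ : f ∈ normalizer (Q₀ : Set Γ) := by
      apply TH_mem_normalizer_of_forall
      intro g hg
      have e2 := hcomm g hg f (mem_zpowers f)
      rw [e2, mul_inv_cancel_right]
      exact hg
    have hhQ₀ : h ∈ normalizer (Q₀ : Set Γ) := by
      apply TH_mem_normalizer_of_forall
      intro g hg
      refine mem_inf.mpr ⟨(mem_normalizer_iff.1 c.hQ g).1 hg.1, ?_⟩
      rw [mem_centralizer_iff]
      intro a ha
      have e2 := hcomm g hg _ (c.rel.conj_mem' ha)
      calc a * (h * g * h⁻¹) = h * ((h⁻¹ * a * h) * g) * h⁻¹ := by group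
        _ = h * (g * (h⁻¹ * a * h)) * h⁻¹ := by rw [e2]
        _ = h * g * h⁻¹ * a := by group
    by_cases hQQ : Q₀ = Q
    · exfalso
      apply c.bad
      have hfQ : ∀ g ∈ Q, f * g = g * f := fun g hg =>
        hcomm g (hQQ.symm ▸ hg) f (mem_zpowers f)
      have hQS : Q ⊓ S = ⊥ := by
        apply disjoint_iff.mp
        exact IsPGroup.disjoint_of_ne t s c.ts _ _ c.Qt c.Ss
      have hhK : h ∈ normalizer ((Q ⊔ S : Subgroup Γ) : Set Γ) := by
        apply TH_mem_normalizer_of_forall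
        intro k hk
        obtain ⟨g, hg, x, hx, rfl⟩ := (Cfsg.Agent.Lib.Helper22.mem_sup_of_le_normalizer c.SQ).mp hk
        have e1 : h * (g * x) * h⁻¹ = (h * g * h⁻¹) * (h * x * h⁻¹) := by group
        rw [e1]
        exact mul_mem_sup ((mem_normalizer_iff.1 c.hQ g).1 hg) ((mem_normalizer_iff.1 c.hS x).1 hx)
      have hfpf : ∀ k ∈ Q ⊔ S, h * k = k * h → k = 1 := by
        intro k hk hhk
        obtain ⟨g, hg, x, hx, rfl⟩ := (Cfsg.Agent.Lib.Helper22.mem_sup_of_le_normalizer c.SQ).mp hk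
        have hg' : h * g * h⁻¹ ∈ Q := (mem_normalizer_iff.1 c.hQ g).1 hg
        have hx' : h * x * h⁻¹ ∈ S := (mem_normalizer_iff.1 c.hS x).1 hx
        have e1 : (h * g * h⁻¹) * (h * x * h⁻¹) = g * x := by
          have : h * (g * x) * h⁻¹ = g * x := by rw [hhk]; group
          rw [← this]; group
        have e2 : g⁻¹ * (h * g * h⁻¹) = x * (h * x * h⁻¹)⁻¹ := by
          have := congrArg (fun z => g⁻¹ * z * (h * x * h⁻¹)⁻¹) e1
          simpa [mul_assoc] using this
        have e3 : g⁻¹ * (h * g * h⁻¹) ∈ Q ⊓ S :=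
          mem_inf.mpr ⟨Q.mul_mem (Q.inv_mem hg) hg', e2 ▸ S.mul_mem hx (S.inv_mem hx')⟩
        rw [hQS, mem_bot] at e3
        have e4 : h * g = g * h := by
          have := congrArg (fun z => g * z * h) e3
          simpa [mul_assoc] using this
        have e5 : x * (h * x * h⁻¹)⁻¹ = 1 := by rw [← e2, e3]
        have e6 : h * x = x * h := by
          have := congrArg (fun z => z * (h * x)) e5
          simpa [mul_assoc] using this.symm
        rw [c.fixQ g hg (hfQ g hg) e4, h1 x hx e6, one_mul]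
      have hnil : Group.IsNilpotent ((Q ⊔ S : Subgroup Γ)) :=
        Cfsg.Agent.Lib.Helper52.FrobCyc.nilpotent_of_fpf (Q ⊔ S) c.rel.pP c.rel.orderOf_h hhK hfpf
      have hnd : ¬ t ∣ Nat.card S := by
        obtain ⟨k, hk⟩ := IsPGroup.iff_card.mp c.Ss
        rw [hk]
        intro hd
        exact c.ts ((Nat.prime_dvd_prime_iff_eq c.tP c.sP).mp (c.tP.dvd_of_dvd_pow hd))
      intro x hx
      rw [mem_centralizer_iff]
      intro g hg
      exact Cfsg.Agent.Lib.Helper76.commute_of_le_nilpotent hnil Q S le_sup_left le_sup_right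
        c.Qt hnd hg hx
    · have h2 := c.minQ Q₀ inf_le_left hQQ hSQ₀ hfQ₀ hhQ₀
      intro g hg hfg x hx
      exact ((mem_centralizer_iff.1 (h2 hx)) g (hmem g hg hfg)).symm

end Cfsg.Agent.Lib.Helper46.FrobPQ
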