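import Mathlib
import Cfsg.Agent.Lib.Helper46.FrobPQ.Defs
import Cfsg.Agent.Lib.Helper46.FrobPQ.Rel
import Cfsg.Agent.Lib.Helper46.FrobPQ.Wt
import Cfsg.Agent.Lib.Helper46.FrobPQ.AbW
import Cfsg.Agent.Lib.Helper46.FrobPQ.Struct
import Cfsg.Agent.Lib.Helper46.FrobPQ.TypeH

/-!
# S4306 farm, piece [ABH]   (file Cfsg/Agent/Lib/Helper46/FrobPQ/AbelH.lean)

PAPER PROOF.
TH := c.typeH hH: (i) h fixed point free on S, (iii) C_Q(f) is centralized by S; with c.struct (5th): g ∈ Q, f g = g f ⇒ g = 1.   (*)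
c.exists_lam: weight lam, x₀ ∈ S, g₀ ∈ Q, lam ⁅x₀,g₀⁆ ≠ 1.  T := stab Q lam.
(a) No S-conjugate of f is in T; more generally f ∉ stab Q lam' for any weight lam' (wt ≠ ⊥) which is nontrivial on Q: g ↦ ⁅f,g⁆ is an injective map Q → Q by (*) (Q abelian: ⁅f,g⁆ = ⁅f,g'⁆ ⇒ f (g'⁻¹g) f⁻¹ = g'⁻¹ g), so surjective, and lam' ⁅f,g⁆ = 1 (lam_comm_of_stab).  Since f centralizes S, x⁻¹ f x = f.
(b) By c.tri, for every x ∈ S there is a_x ∈ F with t_x := x⁻¹ (a_x h a_x⁻¹) x ∈ T.  As a_x commutes with x: t_x = ⁅x⁻¹,h⁆' ... compute: x⁻¹ a h a⁻¹ x = a (x⁻¹ h x) a⁻¹ = a (⁅x⁻¹,h⁆ h) a⁻¹ = ⁅x⁻¹,h⁆ * (a h a⁻¹)  (⁅x⁻¹,h⁆ ∈ S commutes with a).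
    So t_x t_1⁻¹ = u * c with u = ⁅x⁻¹,h⁆ ∈ S, c = (a_x h a_x⁻¹)(a_1 h a_1⁻¹)⁻¹ ∈ F (h normalizes F), u c = c u.  (u c)^q = u^q ∈ T and u is a power of u^q (order of u is a power of s ≠ q).  So ⁅x⁻¹,h⁆ ∈ T for all x ∈ S.
(c) x ↦ ⁅x,h⁆ is injective S → S by (i) (x h x⁻¹ = y h y⁻¹ ⇒ y⁻¹ x commutes with h), so surjective.  Hence S ≤ T, and lam ⁅x₀,g₀⁆ = 1 by lam_comm_of_stab.  Contradiction.
-/

set_option autoImplicit false
set_option linter.unusedSectionVars false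
set_option linter.unusedVariables false

namespace Cfsg.Agent.Lib.Helper46.FrobPQ

open Subgroup
open scoped commutatorElement

universe u

variable {E : Type*} [Field E] {U : Type*} [AddCommGroup U] [Module E U]
  {Γ : Type*} [Group Γ] [Finite Γ]

variable {ρ : Γ →* Module.End E U} {Q S : Subgroup Γ} {f h : Γ} {t s p q : ℕ}

theorem abelH_mem_of_pow_mem {T : Subgroup Γ} {u : Γ} {q N : ℕ} (hc : Nat.Coprime q N)
    (h1 : u ^ q ∈ T) (h2 : u ^ N = 1) : u ∈ T := by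
  obtain ⟨a, b, hab⟩ := Nat.isCoprime_iff_coprime.2 hc
  have h3 : u = (u ^ q) ^ a * (u ^ N) ^ b := by
    calc u = u ^ (1 : ℤ) := (zpow_one u).symm
      _ = u ^ (a * q + b * N) := by rw [hab]
      _ = (u ^ q) ^ a * (u ^ N) ^ b := by
        rw [zpow_add, mul_comm a, mul_comm b, zpow_mul, zpow_mul, zpow_natCast, zpow_natCast]
  rw [h3, h2, one_zpow, mul_one]
  exact T.zpow_mem h1 a

theorem Cfg.abelH [IsAlgClosed E] [FiniteDimensional E U] (c : Cfg ρ Q S f h t s p q)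
    (hab : ∀ g ∈ Q, ∀ y ∈ Q, g * y = y * g) (hH : ∀ x ∈ S, f * x = x * f) : False := by
  classical
  obtain ⟨hfpfS, -, hCf⟩ := c.typeH hH
  obtain ⟨-, -, -, -, h5⟩ := c.struct
  have hstar : ∀ g ∈ Q, f * g = g * f → g = 1 := fun g hg hfg => h5 hab g hg (hCf g hg hfg)
  obtain ⟨lam, hne, x₀, hx₀, g₀, hg₀, hlam⟩ := c.exists_lam hab
  have hcQ : ∀ γ ∈ normalizer (Q : Set Γ), ∀ g ∈ Q, ⁅γ, g⁆ ∈ Q := by
    intro γ hγ g hg
    exact Q.mul_mem ((mem_normalizer_iff.1 hγ g).1 hg) (Q.inv_mem hg)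
  -- (a)
  have hfT : f ∉ stab Q lam := by
    intro hf
    let φ : Q → Q := fun g => ⟨⁅f, (g : Γ)⁆, hcQ f c.fQ g g.2⟩
    have hinj : Function.Injective φ := by
      intro g g' hgg
      have h1 : f * (g : Γ) * f⁻¹ * (g : Γ)⁻¹ = f * (g' : Γ) * f⁻¹ * (g' : Γ)⁻¹ :=
        congrArg Subtype.val hgg
      have h2 : f * ((g' : Γ)⁻¹ * g) = ((g' : Γ)⁻¹ * g) * f := by
        have h3 : f * ((g' : Γ)⁻¹ * g) * f⁻¹ = (g' : Γ)⁻¹ * g := by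
          have hA : f * (g : Γ) * f⁻¹ = f * (g' : Γ) * f⁻¹ * (g' : Γ)⁻¹ * g := by
            rw [← h1]; group
          calc f * ((g' : Γ)⁻¹ * g) * f⁻¹
              = (f * (g' : Γ) * f⁻¹)⁻¹ * (f * (g : Γ) * f⁻¹) := by group
            _ = (f * (g' : Γ) * f⁻¹)⁻¹ * (f * (g' : Γ) * f⁻¹ * (g' : Γ)⁻¹ * g) := by rw [hA]
            _ = (g' : Γ)⁻¹ * g := by group
        calc f * ((g' : Γ)⁻¹ * g) = f * ((g' : Γ)⁻¹ * g) * f⁻¹ * f := by group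
          _ = ((g' : Γ)⁻¹ * g) * f := by rw [h3]
      have h4 := hstar _ (Q.mul_mem (Q.inv_mem g'.2) g.2) h2
      exact Subtype.ext (inv_mul_eq_one.1 h4).symm
    have hsurj := Finite.injective_iff_surjective.1 hinj
    obtain ⟨g, hg⟩ := hsurj ⟨⁅x₀, g₀⁆, hcQ x₀ (c.SQ hx₀) g₀ hg₀⟩
    apply hlam
    have h1 : ⁅f, (g : Γ)⁆ = ⁅x₀, g₀⁆ := congrArg Subtype.val hg
    rw [← h1]
    exact lam_comm_of_stab hne hf g.2
  -- elements of `zpowers f` commute with `S`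
  have hFS : ∀ a ∈ zpowers f, ∀ x ∈ S, a * x = x * a := by
    intro a ha x hx
    have h1 : zpowers f ≤ centralizer {x} := by
      rw [zpowers_le, mem_centralizer_iff]
      intro y hy
      rw [Set.mem_singleton_iff.1 hy]
      exact (hH x hx).symm
    exact (mem_centralizer_iff.1 (h1 ha) x (Set.mem_singleton x)).symm
  have htri : ∀ x ∈ S, ∃ a ∈ zpowers f, x⁻¹ * (a * h * a⁻¹) * x ∈ stab Q lam := by
    intro x hx
    rcases c.tri lam hne x hx with h1 | h1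
    · exfalso
      apply hfT
      have h2 : x⁻¹ * f * x = f := by
        rw [mul_assoc, hH x hx, ← mul_assoc, inv_mul_cancel, one_mul]
      rwa [h2] at h1
    · exact h1
  have hcS : ∀ x ∈ S, ⁅x, h⁆ ∈ S := by
    intro x hx
    have h1 : h * x⁻¹ * h⁻¹ ∈ S := (mem_normalizer_iff.1 c.hS x⁻¹).1 (S.inv_mem hx)
    have h2 : ⁅x, h⁆ = x * (h * x⁻¹ * h⁻¹) := by simp only [commutatorElement_def]; group
    rw [h2]
    exact S.mul_mem hx h1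
  obtain ⟨a₁, ha₁, hT₁⟩ := htri 1 S.one_mem
  have hT₁' : a₁ * h * a₁⁻¹ ∈ stab Q lam := by simpa using hT₁
  have hkey : ∀ x ∈ S, ⁅x⁻¹, h⁆ ∈ stab Q lam := by
    intro x hx
    obtain ⟨a, ha, hT⟩ := htri x hx
    have hu : ⁅x⁻¹, h⁆ ∈ S := hcS _ (S.inv_mem hx)
    have hcc : (a * h * a⁻¹) * (a₁ * h * a₁⁻¹)⁻¹ ∈ zpowers f := by
      have h1 : (a * h * a⁻¹) * (a₁ * h * a₁⁻¹)⁻¹ = a * (h * (a⁻¹ * a₁) * h⁻¹) * a₁⁻¹ := by group
      rw [h1]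
      exact mul_mem (mul_mem ha (c.rel.conj_mem (mul_mem (inv_mem ha) ha₁))) (inv_mem ha₁)
    have h2 : x⁻¹ * (a * h * a⁻¹) * x = ⁅x⁻¹, h⁆ * (a * h * a⁻¹) := by
      have e1 : a * x⁻¹ = x⁻¹ * a := hFS a ha _ (S.inv_mem hx)
      have e2 : a * ⁅x⁻¹, h⁆ = ⁅x⁻¹, h⁆ * a := hFS a ha _ hu
      have e3 : a⁻¹ * x = x * a⁻¹ := hFS _ (inv_mem ha) _ hx
      calc x⁻¹ * (a * h * a⁻¹) * x = (x⁻¹ * a) * h * (a⁻¹ * x) := by group
        _ = (a * x⁻¹) * h * (x * a⁻¹) := by rw [e1, e3]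
        _ = (a * ⁅x⁻¹, h⁆) * h * a⁻¹ := by simp only [commutatorElement_def]; group
        _ = ⁅x⁻¹, h⁆ * (a * h * a⁻¹) := by rw [e2]; group
    have h3 : ⁅x⁻¹, h⁆ * ((a * h * a⁻¹) * (a₁ * h * a₁⁻¹)⁻¹) ∈ stab Q lam := by
      have := mul_mem hT (inv_mem hT₁')
      rw [h2, mul_assoc] at this
      exact this
    have hcomm : Commute ⁅x⁻¹, h⁆ ((a * h * a⁻¹) * (a₁ * h * a₁⁻¹)⁻¹) := (hFS _ hcc _ hu).symm
    have hccq : ((a * h * a⁻¹) * (a₁ * h * a₁⁻¹)⁻¹) ^ q = 1 := by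
      obtain ⟨k, hk⟩ := mem_zpowers_iff.1 hcc
      rw [← hk, ← zpow_natCast, ← zpow_mul, mul_comm, zpow_mul, zpow_natCast, c.rel.fq, one_zpow]
    have h4 : ⁅x⁻¹, h⁆ ^ q ∈ stab Q lam := by
      have := pow_mem h3 q
      rwa [hcomm.mul_pow, hccq, mul_one] at this
    have : Fact s.Prime := ⟨c.sP⟩
    obtain ⟨k, hk⟩ := IsPGroup.iff_card.1 c.Ss
    have h5 : ⁅x⁻¹, h⁆ ^ Nat.card S = 1 := by
      have := pow_card_eq_one' (G := S) (x := ⟨_, hu⟩)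
      exact congrArg Subtype.val this
    refine abelH_mem_of_pow_mem ?_ h4 h5
    rw [hk]
    exact Nat.Coprime.pow_right k ((Nat.coprime_primes c.rel.qP c.sP).2 c.sq.symm)
  -- (c)
  have hST : S ≤ stab Q lam := by
    let ψ : S → S := fun x => ⟨⁅(x : Γ), h⁆, hcS x x.2⟩
    have hinj : Function.Injective ψ := by
      intro x y hxy
      have h1 : (x : Γ) * h * (x : Γ)⁻¹ * h⁻¹ = (y : Γ) * h * (y : Γ)⁻¹ * h⁻¹ :=
        congrArg Subtype.val hxy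
      have h2 : h * ((y : Γ)⁻¹ * x) = ((y : Γ)⁻¹ * x) * h := by
        have h3 : (x : Γ) * h * (x : Γ)⁻¹ = (y : Γ) * h * (y : Γ)⁻¹ := mul_right_cancel h1
        calc h * ((y : Γ)⁻¹ * x) = (y : Γ)⁻¹ * ((y : Γ) * h * (y : Γ)⁻¹) * x := by group
          _ = (y : Γ)⁻¹ * ((x : Γ) * h * (x : Γ)⁻¹) * x := by rw [h3]
          _ = ((y : Γ)⁻¹ * x) * h := by group
      have h4 := hfpfS _ (S.mul_mem (S.inv_mem y.2) x.2) h2
      exact Subtype.ext (inv_mul_eq_one.1 h4).symm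
    have hsurj := Finite.injective_iff_surjective.1 hinj
    intro z hz
    obtain ⟨x, hx⟩ := hsurj ⟨z, hz⟩
    have h1 : ⁅(x : Γ), h⁆ = z := congrArg Subtype.val hx
    have h2 := hkey _ (S.inv_mem x.2)
    rw [inv_inv, h1] at h2
    exact h2
  exact hlam (lam_comm_of_stab hne (hST hx₀) hg₀)

end Cfsg.Agent.Lib.Helper46.FrobPQ
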