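import Mathlib
import Cfsg.Agent.Lib.Helper46.FrobPQ.Defs
import Cfsg.Agent.Lib.Helper46.FrobPQ.Rel
import Cfsg.Agent.Lib.Helper46.FrobPQ.Wt
import Cfsg.Agent.Lib.Helper46.FrobPQ.ExWt
import Cfsg.Agent.Lib.Helper46.FrobPQ.StabTri
import Cfsg.Agent.Lib.Helper46.FrobPQ.AbW
import Cfsg.Agent.Lib.Helper46.FrobPQ.Struct
import Cfsg.Agent.Lib.Helper46.FrobPQ.Types
import Cfsg.Agent.Lib.Helper46.FrobPQ.TypeH
import Cfsg.Agent.Lib.Helper46.FrobPQ.Conj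
import Cfsg.Agent.Lib.Helper46.FrobPQ.LemmaY
import Cfsg.Agent.Lib.Helper46.FrobPQ.NAB

/-!
# S4306 farm, piece [NA]   (file Cfsg/Agent/Lib/Helper46/FrobPQ/NonAb.lean)

PAPER PROOF.
Z := Q ⊓ centralizer Q.  g₀, y₀ ∈ Q, w₀ := ⁅g₀,y₀⁆ ≠ 1, w₀ ∈ Z (c.struct 3rd), ρ w₀ ≠ 1 (inj).  exists_wt (X = ⊤, R = Z abelian, card Z ∣ card Q = t^k) gives μ with wt ρ Z μ ≠ ⊥, μ w₀ ≠ 1.  stab_tri for Z (f, h normalize Z):
(a) μ invariant under f and h: c.inv_triv Z ⇒ μ = 1 on Z: contradiction.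
(b) b := f, n := q.  HY: let y ∈ Q commute with f and all ⁅x,f⁆.  c.types.2: if f centralizes S: c.typeH (3rd) ⇒ S centralizes y ⇒ y ∈ C(Q) (c.struct 2nd).  If ⁅S,zpowers f⁆ = S: comm_zpowers_le (H := centralizer {y}) ⇒ S centralizes y ⇒ y ∈ C(Q).
(c) b := h' = a h a⁻¹, n := p.  c' := c.conj a; HY := (c'.lemmaY y …).1.
In (b), (c): nab (cl2 = c.struct 3rd, SZ = c.struct 4th (hna), Sab = c.types.1) ⇒ μ ⁅⁅x,g⁆,y⁆ = 1 for x ∈ S, g, y ∈ Q.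
{g ∈ Q | μ ⁅g,y₀⁆ = 1} is a subgroup (class 2 + wt_mul), contains all ⁅g,x⁆ = ⁅x,g⁆⁻¹, hence ⁅Q,S⁆ = Q (c.struct 1st).  So μ w₀ = 1.  Contradiction.
-/

set_option autoImplicit false
set_option linter.unusedSectionVars false
set_option linter.unusedVariables false

namespace Cfsg.Agent.Lib.Helper46.FrobPQ

open Subgroup
open scoped commutatorElement

universe u

variable {E : Type*} [Field E] {U : Type*} [AddCommGroup U] [Module E U]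
  {Γ : Type*} [Group Γ] [Finite Γ]

variable {ρ : Γ →* Module.End E U} {Q S : Subgroup Γ} {f h : Γ} {t s p q : ℕ}

theorem Cfg.nonab [IsAlgClosed E] [FiniteDimensional E U] (c : Cfg ρ Q S f h t s p q)
    (hna : ∃ g ∈ Q, ∃ y ∈ Q, g * y ≠ y * g) : False := by
  classical
  obtain ⟨g₀, hg₀, y₀, hy₀, hne₀⟩ := hna
  obtain ⟨hQS, hCS, hcl2, hSZ, -⟩ := c.struct
  have hSZ' := hSZ ⟨g₀, hg₀, y₀, hy₀, hne₀⟩
  have hcomQ : ∀ g ∈ Q, ∀ y ∈ Q, ⁅g, y⁆ ∈ Q ⊓ centralizer (Q : Set Γ) := fun g hg y hy =>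
    ⟨Q.mul_mem (Q.mul_mem (Q.mul_mem hg hy) (Q.inv_mem hg)) (Q.inv_mem hy), hcl2 g hg y hy⟩
  have hw₀ : ⁅g₀, y₀⁆ ≠ 1 := by
    intro h0
    exact hne₀ (commutatorElement_eq_one_iff_mul_comm.1 h0)
  have hρw : ρ ⁅g₀, y₀⁆ ≠ 1 := fun h0 => hw₀ (c.inj _ (hcomQ g₀ hg₀ y₀ hy₀).1 h0)
  have normZ1 : ∀ γ ∈ normalizer (Q : Set Γ), ∀ z ∈ Q ⊓ centralizer (Q : Set Γ),
      γ * z * γ⁻¹ ∈ Q ⊓ centralizer (Q : Set Γ) := by
    intro γ hγ z hz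
    refine Subgroup.mem_inf.2 ⟨(mem_normalizer_iff.1 hγ z).1 hz.1, ?_⟩
    rw [mem_centralizer_iff]
    intro y hy
    have hy' : γ⁻¹ * y * γ⁻¹⁻¹ ∈ Q := (mem_normalizer_iff.1 (inv_mem hγ) y).1 hy
    have h1 := mem_centralizer_iff.1 hz.2 _ hy'
    have h2 : y = γ * (γ⁻¹ * y * γ⁻¹⁻¹) * γ⁻¹ := by group
    rw [h2]
    calc γ * (γ⁻¹ * y * γ⁻¹⁻¹) * γ⁻¹ * (γ * z * γ⁻¹)
        = γ * ((γ⁻¹ * y * γ⁻¹⁻¹) * z) * γ⁻¹ := by group
      _ = γ * (z * (γ⁻¹ * y * γ⁻¹⁻¹)) * γ⁻¹ := by rw [h1]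
      _ = γ * z * γ⁻¹ * (γ * (γ⁻¹ * y * γ⁻¹⁻¹) * γ⁻¹) := by group
  have normZ : ∀ γ ∈ normalizer (Q : Set Γ),
      γ ∈ normalizer ((Q ⊓ centralizer (Q : Set Γ) : Subgroup Γ) : Set Γ) := by
    intro γ hγ
    rw [mem_normalizer_iff]
    intro z
    refine ⟨normZ1 γ hγ z, fun hz => ?_⟩
    have h1 := normZ1 γ⁻¹ (inv_mem hγ) _ hz
    have h2 : γ⁻¹ * (γ * z * γ⁻¹) * γ⁻¹⁻¹ = z := by group
    rwa [h2] at h1
  have hZab : ∀ g ∈ Q ⊓ centralizer (Q : Set Γ), ∀ y ∈ Q ⊓ centralizer (Q : Set Γ),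
      g * y = y * g := fun g hg y hy => mem_centralizer_iff.1 hy.2 g hg.1
  have hcardZ : (Nat.card (Q ⊓ centralizer (Q : Set Γ) : Subgroup Γ) : E) ≠ 0 := by
    intro h0
    apply c.cardQ
    obtain ⟨k, hk⟩ := Subgroup.card_dvd_of_le
      (inf_le_left : Q ⊓ centralizer (Q : Set Γ) ≤ Q)
    rw [hk, Nat.cast_mul, h0, zero_mul]
  obtain ⟨μ, v, -, hv0, hvμ, hμw⟩ := exists_wt ρ ⊤ (Q ⊓ centralizer (Q : Set Γ))
    (fun _ _ _ _ => Submodule.mem_top)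
    (fun z hz w hw v _ => by
      rw [← Module.End.mul_apply, ← Module.End.mul_apply, ← map_mul, ← map_mul, hZab z hz w hw])
    hcardZ ⁅g₀, y₀⁆ (hcomQ g₀ hg₀ y₀ hy₀) (by
      by_contra hcon
      push Not at hcon
      exact hρw (LinearMap.ext (fun v => hcon v Submodule.mem_top)))
  have hne : wt ρ (Q ⊓ centralizer (Q : Set Γ)) μ ≠ ⊥ := by
    intro h0
    rw [h0, Submodule.mem_bot] at hvμ
    exact hv0 hvμ
  -- the final contradiction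
  have fin : (∀ x ∈ S, ∀ g ∈ Q, ∀ y ∈ Q, μ ⁅⁅x, g⁆, y⁆ = 1) → False := by
    intro H
    have hmul : ∀ g ∈ Q, ∀ g' ∈ Q, μ ⁅g * g', y₀⁆ = μ ⁅g', y₀⁆ * μ ⁅g, y₀⁆ := by
      intro g hg g' hg'
      have h1 : ⁅g * g', y₀⁆ = g * ⁅g', y₀⁆ * g⁻¹ * ⁅g, y₀⁆ := by
        simp only [commutatorElement_def]; group
      have h2 : g * ⁅g', y₀⁆ * g⁻¹ = ⁅g', y₀⁆ := by
        rw [mem_centralizer_iff.1 (hcl2 g' hg' y₀ hy₀) g hg, mul_assoc, mul_inv_cancel, mul_one]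
      rw [h1, h2, wt_mul hne (hcomQ g' hg' y₀ hy₀) (hcomQ g hg y₀ hy₀)]
    let Hs : Subgroup Γ :=
      { carrier := {g | g ∈ Q ∧ μ ⁅g, y₀⁆ = 1}
        mul_mem' := by
          rintro a b ⟨ha, ha'⟩ ⟨hb, hb'⟩
          exact ⟨Q.mul_mem ha hb, by rw [hmul a ha b hb, ha', hb', one_mul]⟩
        one_mem' := ⟨Q.one_mem, by rw [commutatorElement_one_left]; exact wt_one hne⟩
        inv_mem' := by
          rintro a ⟨ha, ha'⟩
          refine ⟨Q.inv_mem ha, ?_⟩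
          have h1 := hmul a ha a⁻¹ (Q.inv_mem ha)
          rw [mul_inv_cancel, commutatorElement_one_left, wt_one hne, ha', mul_one] at h1
          exact h1.symm }
    have hle : ⁅Q, S⁆ ≤ Hs := by
      rw [Subgroup.commutator_le]
      intro g hg x hx
      rw [← commutatorElement_inv]
      apply Hs.inv_mem
      refine ⟨?_, H x hx g hg y₀ hy₀⟩
      have h1 : x * g * x⁻¹ ∈ Q := (mem_normalizer_iff.1 (c.SQ hx) g).1 hg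
      exact Q.mul_mem h1 (Q.inv_mem hg)
    rw [hQS] at hle
    exact hμw (hle hg₀).2
  rcases stab_tri ρ c.rel (Q ⊓ centralizer (Q : Set Γ)) (normZ f c.fQ) (normZ h c.hQ) c.fixU μ hne
    with ⟨hf, hh⟩ | ⟨hf, hfix⟩ | ⟨a, ha, hinv, hfix⟩
  · exact hμw (c.inv_triv _ inf_le_left hZab μ hne ⟨normZ f c.fQ, hf⟩ ⟨normZ h c.hQ, hh⟩ _
      (hcomQ g₀ hg₀ y₀ hy₀))
  · apply fin
    refine nab ρ Q S f c.tP c.sP c.rel.qP c.ts c.tq.symm c.sq.symm c.Qt c.Ss c.tE c.qE c.SQ c.fQ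
      c.fS c.rel.fq hcl2 hSZ' c.types.1 ?_ μ hne hf hfix
    intro y hy hxy hfy
    rcases c.types.2 with hH | ⟨hF, -⟩
    · exact hCS y hy ((c.typeH hH).2.2 y hy hfy)
    · have h1 := comm_zpowers_le S (centralizer {y}) f c.fS (fun x hx => by
        rw [mem_centralizer_iff]
        intro y' hy'
        rw [Set.mem_singleton_iff.1 hy']
        exact (hxy x hx).symm)
      rw [hF] at h1
      apply hCS y hy
      intro x hx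
      exact (mem_centralizer_iff.1 (h1 hx) y (Set.mem_singleton y)).symm
  · apply fin
    have c' := c.conj a ha
    exact nab ρ Q S (a * h * a⁻¹) c.tP c.sP c.rel.pP c.ts c.tp.symm c.sp.symm c.Qt c.Ss c.tE c.pE
      c.SQ c'.hQ c'.hS c'.rel.hp hcl2 hSZ' c.types.1
      (fun y hy h1 h2 => (c'.lemmaY y hy h1 h2).1) μ hne hinv hfix

end Cfsg.Agent.Lib.Helper46.FrobPQ
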