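import Mathlib
import Cfsg.Agent.Lib.Helper46.FrobPQ.Defs
import Cfsg.Agent.Lib.Helper46.FrobPQ.Types
import Cfsg.Agent.Lib.Helper46.FrobPQ.AbelH
import Cfsg.Agent.Lib.Helper46.FrobPQ.AbelF
import Cfsg.Agent.Lib.Helper46.FrobPQ.NonAb

/-!
# S4306 farm, piece [CT]   (file Cfsg/Agent/Lib/Helper46/FrobPQ/Core.lean)

PAPER PROOF.
`Cfg.false` is already proved below.  core: strong induction on Nat.card S + Nat.card Q, for all Q S simultaneously (ρ, f, h, primes fixed).  If ¬ S ≤ C(Q), build Cfg: minS: for S₀ < S normalized by f, h, `Hyp0 ρ Q S₀ …` holds (fields restrict) and card S₀ < card S, so IH.  minQ likewise (Q₀ < Q normalized by S, f, h).  Then Cfg.false.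
-/

set_option autoImplicit false
set_option linter.unusedSectionVars false
set_option linter.unusedVariables false

namespace Cfsg.Agent.Lib.Helper46.FrobPQ

open Subgroup
open scoped commutatorElement

universe u

variable {E : Type*} [Field E] {U : Type*} [AddCommGroup U] [Module E U]
  {Γ : Type*} [Group Γ] [Finite Γ]

variable {ρ : Γ →* Module.End E U} {Q S : Subgroup Γ} {f h : Γ} {t s p q : ℕ}

theorem Cfg.false [IsAlgClosed E] [FiniteDimensional E U] (c : Cfg ρ Q S f h t s p q) : False := by
  by_cases hab : ∀ g ∈ Q, ∀ y ∈ Q, g * y = y * g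
  · rcases c.types.2 with hH | ⟨hF, hF'⟩
    · exact c.abelH hab hH
    · exact c.abelF hab hF hF'
  · push Not at hab
    exact c.nonab hab

theorem core_card_lt {H K : Subgroup Γ} (hle : H ≤ K) (hne : H ≠ K) : Nat.card H < Nat.card K := by
  have hlt' : H < K := lt_of_le_of_ne hle hne
  have := Set.ncard_lt_ncard (SetLike.coe_ssubset_coe.2 hlt') (Set.toFinite _)
  rw [← Nat.card_coe_set_eq, ← Nat.card_coe_set_eq] at this
  exact this

theorem core [IsAlgClosed E] [FiniteDimensional E U] (c : Hyp0 ρ Q S f h t s p q) :
    S ≤ centralizer (Q : Set Γ) := by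
  induction hn : Nat.card S + Nat.card Q using Nat.strong_induction_on generalizing Q S with
  | _ n ih =>
    by_contra hbad
    refine Cfg.false (ρ := ρ) (Q := Q) (S := S) (f := f) (h := h) (t := t) (s := s) (p := p) (q := q)
      { c with bad := hbad, minS := ?_, minQ := ?_ }
    · intro S₀ hle hne hf hh
      have hlt := core_card_lt hle hne
      exact ih (Nat.card S₀ + Nat.card Q) (by omega)
        { c with
          Ss := c.Ss.to_le hle
          SQ := hle.trans c.SQ
          fS := hf
          hS := hh
          fixS := fun g hg => c.fixS g (hle hg) } rfl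
    · intro Q₀ hle hne hS hf hh
      have hlt := core_card_lt hle hne
      exact ih (Nat.card S + Nat.card Q₀) (by omega)
        { c with
          Qt := c.Qt.to_le hle
          SQ := hS
          fQ := hf
          hQ := hh
          fixQ := fun g hg => c.fixQ g (hle hg)
          inj := fun g hg => c.inj g (hle hg) } rfl

end Cfsg.Agent.Lib.Helper46.FrobPQ
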