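import Mathlib
import Cfsg.Agent.Lib.Helper46.FrobPQ.Defs
import Cfsg.Agent.Lib.Helper46.FrobPQ.Rel
import Cfsg.Agent.Lib.Helper46.FrobPQ.Core
import Cfsg.Agent.Lib.Helper46.FrobPQ.ExRep
import Cfsg.Agent.Lib.Helper46.FrobPQ.BadPair
import Cfsg.Agent.Lib.Helper46.FrobPQ.HypMap
import Cfsg.Agent.Lib.Helper46.FrobPQ.NoNormalR
import Cfsg.Agent.Lib.Helper73.WardE1

/-!
# S4306 farm, piece [L2]   (file Cfsg/Agent/Lib/Helper46/FrobPQ/ActNil.lean)

The group `G / C_G(V)` is nilpotent for a minimal normal subgroup `V` (formalised by helper25).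
-/

set_option autoImplicit false
set_option linter.unusedSectionVars false
set_option linter.unusedVariables false
set_option linter.style.haveILetI false

namespace Cfsg.Agent.Lib.Helper46.FrobPQ

open Subgroup
open scoped commutatorElement

universe u

theorem actNil_le_normalizer {Γ : Type*} [Group Γ] (N : Subgroup Γ) (hN : N.Normal)
    (A : Subgroup Γ) : A ≤ normalizer (N : Set Γ) := by
  intro a _
  refine mem_normalizer_iff.2 fun x => ⟨fun hx => hN.conj_mem x hx a, fun hx => ?_⟩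
  have := hN.conj_mem _ hx a⁻¹
  simpa [mul_assoc] using this

theorem actNil_dvd_card {Γ : Type*} [Group Γ] [Finite Γ] {t : ℕ} (ht : t.Prime)
    (Q : Subgroup Γ) (hQ : IsPGroup t Q) (hQ1 : Q ≠ ⊥) : t ∣ Nat.card Q := by
  haveI : Fact t.Prime := ⟨ht⟩
  obtain ⟨n, hn⟩ := hQ.exists_card_eq
  rcases Nat.eq_zero_or_pos n with h0 | h0
  · exfalso
    apply hQ1
    rw [h0, pow_zero] at hn
    exact (Subgroup.card_eq_one).1 hn
  · rw [hn]
    exact dvd_pow_self t h0.ne'

theorem Hyp.act_nilpotent {Γ : Type u} [Group Γ] [Finite Γ] {p q : ℕ} {G : Subgroup Γ} {f h : Γ}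
    (H : Hyp p q G f h) (V : Subgroup Γ) [V.Normal] (hVG : V ≤ G) (hV1 : V ≠ ⊥)
    (hmin : ∀ M : Subgroup Γ, M.Normal → M ≤ V → M = ⊥ ∨ M = V)
    (k m : ℕ) (hk : (G.lowerCentralSeries k).lowerCentralSeries m ≤ V) :
    ∃ k', G.lowerCentralSeries k' ≤ centralizer (V : Set Γ) := by
  classical
  haveI hGn : G.Normal := H.normal
  haveI hsolG := H.sol
  have hsolV : Group.IsSolvable V :=
    Group.isSolvable_of_isSolvable_injective (Subgroup.inclusion_injective hVG)
  obtain ⟨hVc, r, hr, hVr⟩ :=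
    Cfsg.Agent.Lib.Helper73.Ward.minimal_normal_structure V hsolV hV1 hmin
  haveI : Fact r.Prime := ⟨hr⟩
  have hVrP : IsPGroup r V := by
    intro g
    refine ⟨1, ?_⟩
    apply Subtype.ext
    simpa using hVr g g.2
  have hrV : r ∣ Nat.card V := actNil_dvd_card hr V hVrP hV1
  have hrG : r ∣ Nat.card G := hrV.trans (Subgroup.card_dvd_of_le hVG)
  have hrpq : r.Coprime (p * q) := Nat.Coprime.coprime_dvd_left hrG H.cop
  have hrp : r ≠ p := by
    rintro rfl
    exact hr.one_lt.ne' (Nat.Coprime.eq_one_of_dvd hrpq (dvd_mul_right _ _))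
  have hrq : r ≠ q := by
    rintro rfl
    exact hr.one_lt.ne' (Nat.Coprime.eq_one_of_dvd hrpq (dvd_mul_left _ _))
  obtain ⟨n, ρ, hρ1, hρfix⟩ := exists_rep V hVc hVr
  have hAcard : Nat.card (closure ({f, h} : Set Γ)) = p * q := H.rel.card_closure
  have hVA : V ⊓ centralizer ((closure ({f, h} : Set Γ) : Subgroup Γ) : Set Γ) = ⊥ := by
    rw [eq_bot_iff]
    intro x hx
    have h1 := mem_centralizer_iff.1 hx.2
    exact (mem_bot).2 (H.fix x (hVG hx.1) (h1 f (subset_closure (by simp)))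
      (h1 h (subset_closure (by simp))))
  have hfixU : ∀ v, ρ f v = v → ρ h v = v → v = 0 := by
    intro v hf hh
    refine hρfix (closure ({f, h} : Set Γ)) (by rw [hAcard]; exact hrpq.symm) hVA v ?_
    intro a ha
    induction ha using Subgroup.closure_induction with
    | mem x hx =>
      rcases hx with rfl | hx
      · exact hf
      · rw [Set.mem_singleton_iff.1 hx]; exact hh
    | one => simp
    | mul x y _ _ hx hy => rw [map_mul, Module.End.mul_apply, hy, hx]
    | inv x _ hx =>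
      calc ρ x⁻¹ v = ρ x⁻¹ (ρ x v) := by rw [hx]
        _ = v := by rw [← Module.End.mul_apply, ← map_mul, inv_mul_cancel, map_one]; rfl
  set D : Subgroup Γ := G ⊓ centralizer (V : Set Γ) with hD
  haveI hDn : D.Normal := by rw [hD]; infer_instance
  have hVD : V ≤ D := by
    intro x hx
    exact ⟨hVG hx, mem_centralizer_iff.2 fun y hy => hVc y hy x hx⟩
  set π : Γ →* Γ ⧸ D := QuotientGroup.mk' D with hπ
  have hker : π.ker = D := QuotientGroup.ker_mk' D
  have hsurj : Function.Surjective π := QuotientGroup.mk'_surjective D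
  have Hb : Hyp p q (G.map π) (π f) (π h) := H.map π hsurj (by rw [hker]; exact inf_le_left)
  let ρb : Γ ⧸ D →* Module.End (AlgebraicClosure (ZMod r)) (Fin n → AlgebraicClosure (ZMod r)) :=
    QuotientGroup.lift D ρ (fun g hg => (hρ1 g).2 hg.2)
  have hρb : ∀ g, ρb (π g) = ρ g := fun g => rfl
  have hinj : ∀ x ∈ G.map π, ρb x = 1 → x = 1 := by
    rintro _ ⟨x, hx, rfl⟩ h1
    rw [hρb] at h1
    have : x ∈ π.ker := by rw [hker]; exact ⟨hx, (hρ1 x).1 h1⟩
    exact this
  by_cases hnil : ∃ k', (G.map π).lowerCentralSeries k' = ⊥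
  · obtain ⟨k', hk'⟩ := hnil
    refine ⟨k', ?_⟩
    rw [← map_lowerCentralSeries, Subgroup.map_eq_bot_iff, hker] at hk'
    exact hk'.trans inf_le_right
  exfalso
  haveI hGbn : (G.map π).Normal := Hb.normal
  have hNm : ((G.map π).lowerCentralSeries k).lowerCentralSeries m = ⊥ := by
    rw [← map_lowerCentralSeries, ← map_lowerCentralSeries, Subgroup.map_eq_bot_iff, hker]
    exact hk.trans hVD
  have hNG : (G.map π).lowerCentralSeries k ≤ G.map π :=
    (Subgroup.lowerCentralSeries_antitone (G.map π)) (Nat.zero_le k)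
  obtain ⟨s, t, S, Q, hs, ht, hst, hSs, hQt, hSX, hQN, hAS, hAQ, hXQ, hbad⟩ :=
    exists_bad_pair (G.map π) (closure {π f, π h}) ((G.map π).lowerCentralSeries k)
      (by rw [Hb.rel.card_closure]; exact Hb.cop.symm) Hb.sol
      (actNil_le_normalizer _ hGbn _) hNG
      (actNil_le_normalizer _ inferInstance _) (actNil_le_normalizer _ inferInstance _)
      ⟨m, hNm⟩ ⟨k, le_rfl⟩ hnil
  have hQG : Q ≤ G.map π := hQN.trans hNG
  have hQ1 : Q ≠ ⊥ := by
    rintro rfl
    apply hbad
    intro x _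
    rw [mem_centralizer_iff]
    intro y hy
    rw [(mem_bot.1 hy : y = 1)]
    simp
  have hS1 : S ≠ ⊥ := by
    rintro rfl
    exact hbad bot_le
  have htG : t ∣ Nat.card (G.map π) :=
    (actNil_dvd_card ht Q hQt hQ1).trans (Subgroup.card_dvd_of_le hQG)
  have hsG : s ∣ Nat.card (G.map π) :=
    (actNil_dvd_card hs S hSs hS1).trans (Subgroup.card_dvd_of_le hSX)
  have key : ∀ w : ℕ, w.Prime → w ∣ Nat.card (G.map π) → w ≠ p ∧ w ≠ q := by
    intro w hw hwG
    have hc : w.Coprime (p * q) := Nat.Coprime.coprime_dvd_left hwG Hb.cop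
    constructor
    · rintro rfl
      exact hw.one_lt.ne' (Nat.Coprime.eq_one_of_dvd hc (dvd_mul_right _ _))
    · rintro rfl
      exact hw.one_lt.ne' (Nat.Coprime.eq_one_of_dvd hc (dvd_mul_left _ _))
  haveI hchar : CharP (AlgebraicClosure (ZMod r)) r :=
    charP_of_injective_algebraMap (algebraMap (ZMod r) (AlgebraicClosure (ZMod r))).injective r
  have hcast : ∀ w : ℕ, w.Prime → r ≠ w → ((w : ℕ) : AlgebraicClosure (ZMod r)) ≠ 0 := by
    intro w hw hrw h0
    rw [CharP.cast_eq_zero_iff (AlgebraicClosure (ZMod r)) r w] at h0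
    exact hrw ((Nat.prime_dvd_prime_iff_eq hr hw).1 h0)
  have hfA : π f ∈ closure ({π f, π h} : Set (Γ ⧸ D)) := subset_closure (by simp)
  have hhA : π h ∈ closure ({π f, π h} : Set (Γ ⧸ D)) := subset_closure (by simp)
  have htr : r ≠ t := by
    rintro rfl
    have hQn : Q.Normal := by
      have h1 : normalizer (Q : Set (Γ ⧸ D)) = ⊤ := by
        rw [eq_top_iff, ← Hb.sup]
        exact sup_le hXQ hAQ
      exact normalizer_eq_top_iff.1 h1
    haveI hPn : (Q.comap π).Normal := hQn.comap π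
    have hP : ∀ g ∈ Q.comap π, ∃ j : ℕ, g ^ r ^ j ∈ centralizer (V : Set Γ) := by
      intro g hg
      obtain ⟨j, hj⟩ := hQt ⟨π g, hg⟩
      refine ⟨j, ?_⟩
      have h1 : π (g ^ r ^ j) = 1 := by
        rw [map_pow]
        exact congrArg Subtype.val hj
      have h2 : g ^ r ^ j ∈ π.ker := h1
      rw [hker] at h2
      exact h2.2
    have hPC := no_normal_r hr V hV1 hVrP hmin (Q.comap π) hP
    apply hQ1
    rw [eq_bot_iff]
    intro x hx
    obtain ⟨g, hgG, rfl⟩ := hQG hx
    have h1 : g ∈ π.ker := by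
      rw [hker]
      exact ⟨hgG, hPC hx⟩
    exact mem_bot.2 h1
  have c : Hyp0 ρb Q S (π f) (π h) t s p q :=
    { rel := Hb.rel
      tP := ht
      sP := hs
      ts := hst.symm
      tp := (key t ht htG).1
      tq := (key t ht htG).2
      sp := (key s hs hsG).1
      sq := (key s hs hsG).2
      Qt := hQt
      Ss := hSs
      SQ := hSX.trans hXQ
      fQ := hAQ hfA
      hQ := hAQ hhA
      fS := hAS hfA
      hS := hAS hhA
      fixQ := fun g hg => Hb.fix g (hQG hg)
      fixS := fun g hg => Hb.fix g (hSX hg)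
      fixU := fun v h1 h2 => hfixU v h1 h2
      tE := hcast t ht htr
      pE := hcast p H.rel.pP hrp
      qE := hcast q H.rel.qP hrq
      inj := fun g hg => hinj g (hQG hg) }
  exact hbad (core c)

end Cfsg.Agent.Lib.Helper46.FrobPQ
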