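import Mathlib
import Cfsg.Agent.Lib.Helper46.FrobPQ.Defs
import Cfsg.Agent.Lib.Helper46.FrobPQ.HypMap
import Cfsg.Agent.Lib.Helper46.FrobPQ.ActNil
import Cfsg.Agent.Lib.Helper71.S3.Main

/-!
# S4306 farm, piece [MAIN]: the induction

Strong induction on `Nat.card G`.  Choose `V` minimal normal in `Γ` inside `G`; the quotient is
handled by induction, the action on `V` by `Hyp.act_nilpotent`.
-/

set_option autoImplicit false
set_option linter.unusedSectionVars false
set_option linter.unusedVariables false

namespace Cfsg.Agent.Lib.Helper46.FrobPQ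

open Subgroup
open scoped commutatorElement

universe u

theorem main_aux (n : ℕ) : ∀ {Γ : Type u} [Group Γ] [Finite Γ] {p q : ℕ} (G : Subgroup Γ) (f h : Γ),
    Hyp p q G f h → Nat.card G = n →
      ∃ k m, (G.lowerCentralSeries k).lowerCentralSeries m = ⊥ := by
  induction n using Nat.strong_induction_on with
  | _ n ih =>
    intro Γ _ _ p q G f h H hn
    by_cases hG : G = ⊥
    · refine ⟨0, 0, ?_⟩
      rw [Subgroup.lowerCentralSeries_zero, Subgroup.lowerCentralSeries_zero, hG]
    · obtain ⟨V, hVn, hVG, hV1, hmin⟩ :=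
        Cfsg.Agent.Lib.Helper71.S3.exists_minimal_normal G H.normal hG
      have := hVn
      have hq := H.map (QuotientGroup.mk' V) (QuotientGroup.mk'_surjective V)
        (by rw [QuotientGroup.ker_mk']; exact hVG)
      have hlt : Nat.card (G.map (QuotientGroup.mk' V)) < n :=
        hn ▸ Cfsg.Agent.Lib.Helper71.S3.card_map_mk_lt G V hVG hV1
      obtain ⟨k, m, hk⟩ := ih _ hlt (G.map (QuotientGroup.mk' V)) _ _ hq rfl
      have hkV : (G.lowerCentralSeries k).lowerCentralSeries m ≤ V := by
        rw [← Subgroup.map_lowerCentralSeries, ← Subgroup.map_lowerCentralSeries] at hk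
        have := (Subgroup.map_eq_bot_iff _).mp hk
        rwa [QuotientGroup.ker_mk'] at this
      obtain ⟨k', hk'⟩ := H.act_nilpotent V hVG hV1 hmin k m hkV
      refine ⟨max k k', m + 1, ?_⟩
      have h1 : G.lowerCentralSeries (max k k') ≤ G.lowerCentralSeries k :=
        Subgroup.lowerCentralSeries_antitone G (le_max_left k k')
      have h2 : G.lowerCentralSeries (max k k') ≤ centralizer (V : Set Γ) :=
        (Subgroup.lowerCentralSeries_antitone G (le_max_right k k')).trans hk'
      rw [Subgroup.lowerCentralSeries_succ, eq_bot_iff]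
      calc ⁅(G.lowerCentralSeries (max k k')).lowerCentralSeries m, G.lowerCentralSeries (max k k')⁆
          ≤ ⁅V, centralizer (V : Set Γ)⁆ :=
            commutator_mono ((Subgroup.lowerCentralSeries_mono m h1).trans hkV) h2
        _ = ⊥ := by
          rw [commutator_eq_bot_iff_le_centralizer]
          intro v hv
          rw [mem_centralizer_iff]
          intro c hc
          exact (mem_centralizer_iff.mp hc v hv).symm

theorem main {Γ : Type u} [Group Γ] [Finite Γ] {p q : ℕ} (G : Subgroup Γ) (f h : Γ)
    (H : Hyp p q G f h) : ∃ k m, (G.lowerCentralSeries k).lowerCentralSeries m = ⊥ :=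
  main_aux _ G f h H rfl

end Cfsg.Agent.Lib.Helper46.FrobPQ
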