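import Mathlib
import Cfsg.Agent.Lib.Helper46.FrobPQ.Defs
import Cfsg.Agent.Lib.Helper46.FrobPQ.Main

/-!
# S4306 farm, piece [TOP]: the semidirect product
-/

set_option autoImplicit false
set_option linter.unusedSectionVars false
set_option linter.unusedVariables false

namespace Cfsg.Agent.Lib.Helper46.FrobPQ

open Subgroup
open scoped commutatorElement

universe u

/-- generators of a non-abelian group of order `pq`, `p < q` -/
theorem top_exists_rel {A : Type*} [Group A] [Finite A] (p q : ℕ) (hp : p.Prime) (hq : q.Prime)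
    (hlt : p < q) (hA : Nat.card A = p * q) (hAna : ¬ IsMulCommutative A) :
    ∃ f h : A, Rel p q f h ∧ closure ({f, h} : Set A) = ⊤ := by
  have : Fact p.Prime := ⟨hp⟩
  have : Fact q.Prime := ⟨hq⟩
  obtain ⟨f, hf⟩ := exists_prime_orderOf_dvd_card' (G := A) q (hA ▸ Dvd.intro_left p rfl)
  obtain ⟨h, hh⟩ := exists_prime_orderOf_dvd_card' (G := A) p (hA ▸ Dvd.intro q rfl)
  have hmin : (p * q).minFac = p := by
    have h1 : (p * q).minFac ≤ p := Nat.minFac_le_of_dvd hp.two_le (Dvd.intro q rfl)
    have hne1 : p * q ≠ 1 := by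
      have := Nat.mul_le_mul hp.two_le hq.two_le
      omega
    have h2 : (p * q).minFac.Prime := Nat.minFac_prime hne1
    rcases (Nat.Prime.dvd_mul h2).1 (Nat.minFac_dvd (p * q)) with h3 | h3
    · exact (Nat.prime_dvd_prime_iff_eq h2 hp).1 h3
    · have := (Nat.prime_dvd_prime_iff_eq h2 hq).1 h3
      omega
  have hidx : (zpowers f).index = p := by
    have h1 := (zpowers f).card_mul_index
    rw [Nat.card_zpowers, hf, hA, mul_comm p q] at h1
    exact Nat.eq_of_mul_eq_mul_left hq.pos h1
  have hnorm : (zpowers f).Normal := by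
    apply normal_of_index_eq_minFac_card
    rw [hidx, hA, hmin]
  have hcl : closure ({f, h} : Set A) = ⊤ := by
    apply Subgroup.eq_top_of_card_eq
    have hfm : f ∈ closure ({f, h} : Set A) := subset_closure (by simp)
    have hhm : h ∈ closure ({f, h} : Set A) := subset_closure (by simp)
    have h1 : q ∣ Nat.card (closure ({f, h} : Set A)) := by
      rw [← hf, ← Nat.card_zpowers]
      exact Subgroup.card_dvd_of_le ((zpowers_le).2 hfm)
    have h2 : p ∣ Nat.card (closure ({f, h} : Set A)) := by
      rw [← hh, ← Nat.card_zpowers]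
      exact Subgroup.card_dvd_of_le ((zpowers_le).2 hhm)
    have h3 : p * q ∣ Nat.card (closure ({f, h} : Set A)) :=
      Nat.Coprime.mul_dvd_of_dvd_of_dvd ((Nat.coprime_primes hp hq).2 hlt.ne) h2 h1
    have h4 : Nat.card (closure ({f, h} : Set A)) ∣ p * q := hA ▸ Subgroup.card_subgroup_dvd_card _
    rw [hA]
    exact Nat.dvd_antisymm h4 h3
  refine ⟨f, h, ⟨hp, hq, hlt.ne, ?_, ?_, hnorm.conj_mem f (mem_zpowers f) h, ?_⟩, hcl⟩
  · rw [← hf]; exact pow_orderOf_eq_one f
  · rw [← hh]; exact pow_orderOf_eq_one h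
  · intro hcomm
    apply hAna
    have h1 : closure ({f, h} : Set A) ≤ centralizer ({f, h} : Set A) := by
      rw [closure_le]
      rintro a (rfl | rfl)
      · rw [SetLike.mem_coe, mem_centralizer_iff]
        rintro b (rfl | rfl)
        · rfl
        · exact hcomm
      · rw [SetLike.mem_coe, mem_centralizer_iff]
        rintro b (rfl | rfl)
        · exact hcomm.symm
        · rfl
    have h2 : closure ({f, h} : Set A) ≤ center A := by
      rw [closure_le]
      intro a ha
      rw [SetLike.mem_coe, mem_center_iff]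
      intro g
      have hg : g ∈ centralizer ({f, h} : Set A) := h1 (hcl ▸ mem_top g)
      exact (mem_centralizer_iff.1 hg a ha).symm
    refine ⟨⟨fun a b => ?_⟩⟩
    have ha : a ∈ center A := h2 (hcl ▸ mem_top a)
    exact (mem_center_iff.1 ha b).symm

theorem top_aux {G A : Type*} [Group G] [Finite G]
    [Group.IsSolvable G] [Group A] [Finite A] [MulDistribMulAction A G] (p q : ℕ) (hp : p.Prime)
    (hq : q.Prime) (hlt : p < q)
    (hA : Nat.card A = p * q) (hAna : ¬ IsMulCommutative A) (hcop : (Nat.card G).Coprime (p * q))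
    (hfpf : ∀ g : G, (∀ a : A, a • g = g) → g = 1) :
    ∃ F : Subgroup G, ∃ hF : F.Normal, Group.IsNilpotent ↥F ∧ Group.IsNilpotent (G ⧸ F) := by
  obtain ⟨f, h, hrel, hcl⟩ := top_exists_rel p q hp hq hlt hA hAna
  let φ : A →* MulAut G := MulDistribMulAction.toMulAut A G
  let inl : G →* G ⋊[φ] A := SemidirectProduct.inl
  let inr : A →* G ⋊[φ] A := SemidirectProduct.inr
  have hinj : Function.Injective inl := SemidirectProduct.inl_injective
  have hinjr : Function.Injective inr := SemidirectProduct.inr_injective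
  have : Finite (G ⋊[φ] A) := Finite.of_equiv _ SemidirectProduct.equivProd.symm
  have hcomm : ∀ (a : A) (g : G), inr a * inl g = inl g * inr a → a • g = g := by
    intro a g h
    have h1 : inr a * inl g * inr a⁻¹ = inl (φ a g) := (SemidirectProduct.inl_aut a g).symm
    rw [h, map_inv, mul_inv_cancel_right] at h1
    exact (hinj h1).symm
  have hyp : Hyp p q inl.range (inr f) (inr h) := by
    refine ⟨⟨hp, hq, hlt.ne, ?_, ?_, ?_, ?_⟩, ?_, ?_, ?_, ?_, ?_⟩
    · rw [← map_pow, hrel.fq, map_one]
    · rw [← map_pow, hrel.hp, map_one]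
    · obtain ⟨j, hj⟩ := mem_zpowers_iff.1 hrel.nF
      rw [← map_inv, ← map_mul, ← map_mul, ← hj, map_zpow]
      exact zpow_mem (mem_zpowers _) j
    · intro hc
      rw [← map_mul, ← map_mul] at hc
      exact hrel.nc (hinjr hc)
    · rw [SemidirectProduct.range_inl_eq_ker_rightHom]
      infer_instance
    · rw [eq_top_iff]
      intro x _
      have hx : x = inl x.left * inr x.right := (SemidirectProduct.inl_left_mul_inr_right x).symm
      rw [hx]
      refine mul_mem (mem_sup_left ⟨_, rfl⟩) (mem_sup_right ?_)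
      have h1 : x.right ∈ closure ({f, h} : Set A) := by
        rw [hcl]; trivial
      have h2 := mem_map_of_mem inr h1
      rw [MonoidHom.map_closure] at h2
      simpa [Set.image_pair] using h2
    · exact Group.isSolvable_of_surjective (f := inl.rangeRestrict) inl.rangeRestrict_surjective
    · rw [Nat.card_congr (MonoidHom.ofInjective hinj).symm.toEquiv]
      exact hcop
    · rintro _ ⟨g, rfl⟩ h1 h2
      have hfix : closure ({f, h} : Set A) ≤ MulAction.stabilizer A g := by
        rw [closure_le]
        rintro a (rfl | rfl)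
        · exact hcomm _ _ h1
        · exact hcomm _ _ h2
      rw [hcl] at hfix
      rw [hfpf g (fun a => hfix (mem_top a)), map_one]
  obtain ⟨k, m, hk⟩ := main inl.range _ _ hyp
  refine ⟨(⊤ : Subgroup G).lowerCentralSeries k, inferInstance, ?_, ?_⟩
  · rw [Subgroup.isNilpotent_iff_lowerCentralSeries]
    refine ⟨m, ?_⟩
    have h2 := Subgroup.map_lowerCentralSeries ((⊤ : Subgroup G).lowerCentralSeries k) inl m
    have h3 := Subgroup.map_lowerCentralSeries (⊤ : Subgroup G) inl k
    rw [← MonoidHom.range_eq_map] at h3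
    rw [h3, hk] at h2
    exact (map_eq_bot_iff_of_injective _ hinj).1 h2
  · rw [Subgroup.nilpotent_iff_lowerCentralSeries]
    refine ⟨k, ?_⟩
    have h2 := Subgroup.map_lowerCentralSeries (⊤ : Subgroup G)
      (QuotientGroup.mk' ((⊤ : Subgroup G).lowerCentralSeries k)) k
    rw [Subgroup.map_top_of_surjective _ (QuotientGroup.mk'_surjective _)] at h2
    rw [← h2, Subgroup.map_eq_bot_iff, QuotientGroup.ker_mk']

theorem top {G A : Type*} [Group G] [Finite G]
    [Group.IsSolvable G] [Group A] [Finite A] [MulDistribMulAction A G] (p q : ℕ) (hp : p.Prime)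
    (hq : q.Prime) (hpq : p ≠ q)
    (hA : Nat.card A = p * q) (hAna : ¬ IsMulCommutative A) (hcop : (Nat.card G).Coprime (p * q))
    (hfpf : ∀ g : G, (∀ a : A, a • g = g) → g = 1) :
    ∃ F : Subgroup G, ∃ hF : F.Normal, Group.IsNilpotent ↥F ∧ Group.IsNilpotent (G ⧸ F) := by
  rcases lt_or_gt_of_ne hpq with h | h
  · exact top_aux p q hp hq h hA hAna hcop hfpf
  · exact top_aux q p hq hp h (by rw [hA, mul_comm]) hAna (by rwa [mul_comm]) hfpf

end Cfsg.Agent.Lib.Helper46.FrobPQ
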